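import Cfsg.Agent.CoS.Lev

/-! # The section of the Conway group by an element of order 5 without fixed vectors -/

set_option autoImplicit false
set_option maxHeartbeats 2000000

namespace Cfsg.Agent.CoS

open Cfsg.Agent.GT Subgroup Cfsg.Agent.M24 Cfsg.Agent.Leech
open Cfsg.Agent.XL (LT)

/-- data -/
def aJ : ℕ := nat_lit 0x26c5902ee46594ab131e01cdc9f63d696633772a14691f7d48afcb92754f591184e4eea7d75f669ecfe7d76f669ef4a34f9255dd1897dbed234f6767db8317db834000abb0006c7
/-- data -/
def aiJ : ℕ := nat_lit 0x2e474665f315d066185423c821d141a073ac2dd2acefd452b4251bdfd32f720df03dc2a56bf43d7f6df26bfdd06bf7d01fd10d76fff6000c7c1fde247db837000c557dbed4000c59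
/-- data -/
def waJ : List ℕ := [nat_lit 0x8a9155cc4c3ba50b34867a4142dc23000000, nat_lit 0, nat_lit
  0x2a92744eec68690312b65be321b84009bcae]
/-- data -/
def gJ : ℕ := nat_lit 0x82fc13e61e493ba382dff86ae500c638782af3e4873182dd1144b429c0161921ae9fe0b5311e712582be258753311bef5cb18f5cb7426924a4210f53692e6b000f2900007b00002a
/-- data -/
def wgJ : List ℕ := [nat_lit 0x9c56c7848ea40402a123928d7ad9a79104d2, nat_lit 0, nat_lit
  0x8adb383c28ade49518f42580c115c39f9505]
/-- data -/
def kJ : ℕ := nat_lit 0xe924f5400a0e200f2810009108030b0400c1020091010f020080c10040c100292e001091000800000400000200000100000081000041000020000011000008000004000002000001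
/-- data -/
def uJ : ℕ := nat_lit 0xd48e6b400a0e2001411006250801d004002d020091010111008c070040c1002111001091000800000400000200000101000081000041000020000011000008000004000002000001
/-- data -/
def uuJ : ℕ := nat_lit 0x800000400000200000100000080000040000020000010000008000004000002000001000000800000400000200000100000080000040000020000010000008000004000002000001
/-- data -/
def pwJ : List ℕ := [nat_lit
  0xd7eff3c1dfbac4bf75f7324d7482a40c5e37e1b0f5e5b03d7332760a078ac5f6d5f5e5f66f7c427be0617be5137becfe57fca157f3490000033ed77c7db2897db8117db2a1000c73,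
  nat_lit
  0x7bc4ece6c2e96d93dc82f19981cc867ebbf8f910f84df598131d916cb3f1424a3d8679b979f5896d656d6d6c3579f5647cd4097cdd767db28d15ff3e7db287000c740006cc0006ec,
  nat_lit
  0x26c5902ee46594ab131e01cdc9f63d696633772a14691f7d48afcb92754f591184e4eea7d75f669ecfe7d76f669ef4a34f9255dd1897dbed234f6767db8317db834000abb0006c7,
  nat_lit
  0x800000400000200000100000080000040000020000010000008000004000002000001000000800000400000200000100000080000040000020000010000008000004000002000001]
/-- data -/
def kgJ : List ℕ := [nat_lit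
  0xe924f5400a0e200f2810009108030b0400c1020091010f020080c10040c100292e001091000800000400000200000100000081000041000020000011000008000004000002000001,
  nat_lit
  0xb118bf40084140bc810494174185135085b4020881089407409596405a51208f6e00141e00020000049e000801000dc6000010000a4f000020000081000008000004000002000001,
  nat_lit
  0x9822be342f3e382ec6288efe308efe5085b422ac6e283a7a18aee838cefe00213e0981ce00093e0003da000f68000010000dc60007b4000020000100000008000004000002000001,
  nat_lit
  0xdd1c6100141e0c141b4481816401a304018142144e443523141417004281451e1c40084e00049e0002010004000001ed000040000081000020000a4e000008000004000002000001]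
/-- data -/
def usJ : List ℕ := [nat_lit
  0x9d047f342f31349f091991c1391363281b451f029115900b2c9b4538c83e4515be0981c10001ec000dc70007b500049e0003db000f69000020000f12000008000004000002000001,
  nat_lit
  0xc53ef1098d06188a9130a56e28a56e281c2c22ac6e50a14c380a9138ca9100292e3429660001000007b5000dc6000800000f680003db00002000093e000008000004000002000001,
  nat_lit
  0xe590303421b55424b40d06da0d2efe012d131f0c6e1c06fc113e30056efe1807910983150007b50001010001ed000401000f1300093f0000200003db000008000004000002000001,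
  nat_lit
  0x94967b0983150582ed2432bb612d4001262d22a2072482c705a3eb05662d2082073421ba000dc60001ec00010100020100093e000f13000020000f69000008000004000002000001,
  nat_lit
  0xd48e6b400a0e2001411006250801d004002d020091010111008c070040c1002111001091000800000400000200000101000081000041000020000011000008000004000002000001]
/-- data -/
def l0J : List ℕ := [nat_lit
  0xdcb1d23db2ca3fd2ec1006673cf37a3bb2de7fb8920a427b428c2d424aef5dfb027da20a000ee20002e20004e20007e20006f2000cad0006e7000663000a960006c2000c5b000001,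
  nat_lit
  0x244fabcffff0ed7777b45ffdf6fc08ace16d71e5f380a9c3afd7ff73b7930056be9e58bd6ee0667f55fb33f3cb5ff30533fd847f51027db81c6ee8c0000c71000c7d7db2a7000c78]
/-- data -/
def w0J : List (List ℕ) := [[nat_lit 0x199b484833782ac5a92825847b962e63008d], [nat_lit
  0x8c14892c0c48e8d392af9d846b95c1400a4f, nat_lit 0, nat_lit 0xd11339050645496c8cfaaef62b80372acd2]]
/-- data -/
def t0J : T := (.node (.node (.node (.node (.node (.node (.node .nil (nat_lit 1) (nat_lit 0) (nat_lit 1) .nil)
  (nat_lit 38) (nat_lit 65) (nat_lit 2751) .nil) (nat_lit 42) (nat_lit 673) (nat_lit 2739) (.node .nil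
  (nat_lit 43) (nat_lit 1137) (nat_lit 3165) .nil)) (nat_lit 44) (nat_lit 353) (nat_lit 0x7dbef0) (.node
  (.node (.node .nil (nat_lit 45) (nat_lit 385) (nat_lit 0x7db81e) .nil) (nat_lit 46) (nat_lit 272) (nat_lit
  1768) .nil) (nat_lit 1733) (nat_lit 1121) (nat_lit 0x7db460) (.node .nil (nat_lit 1734) (nat_lit 129)
  (nat_lit 38) .nil))) (nat_lit 1735) (nat_lit 657) (nat_lit 1736) (.node (.node (.node (.node .nil (nat_lit
  1736) (nat_lit 464) (nat_lit 1737) .nil) (nat_lit 1737) (nat_lit 321) (nat_lit 0x7db46c) .nil) (nat_lit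
  1738) (nat_lit 865) (nat_lit 42) (.node .nil (nat_lit 1764) (nat_lit 784) (nat_lit 3194) .nil)) (nat_lit
  1765) (nat_lit 624) (nat_lit 3195) (.node (.node .nil (nat_lit 1768) (nat_lit 193) (nat_lit 3198) .nil)
  (nat_lit 1772) (nat_lit 945) (nat_lit 2709) (.node .nil (nat_lit 1773) (nat_lit 641) (nat_lit 3195) .nil))))
  (nat_lit 1774) (nat_lit 177) (nat_lit 0x7db83d) (.node (.node (.node (.node (.node .nil (nat_lit 2706)
  (nat_lit 929) (nat_lit 0x7dbed7) .nil) (nat_lit 2709) (nat_lit 801) (nat_lit 3194) .nil) (nat_lit 2715)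
  (nat_lit 977) (nat_lit 0x7dbede) (.node .nil (nat_lit 2716) (nat_lit 1185) (nat_lit 3187) .nil)) (nat_lit
  2718) (nat_lit 433) (nat_lit 0x7dbedb) (.node (.node (.node .nil (nat_lit 2719) (nat_lit 513) (nat_lit
  0x7db835) .nil) (nat_lit 2738) (nat_lit 528) (nat_lit 45) .nil) (nat_lit 2739) (nat_lit 480) (nat_lit 44)
  (.node .nil (nat_lit 2740) (nat_lit 737) (nat_lit 0x7db468) .nil))) (nat_lit 2741) (nat_lit 145) (nat_lit
  0x7db286) (.node (.node (.node (.node .nil (nat_lit 2743) (nat_lit 256) (nat_lit 1774) .nil) (nat_lit 2751)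
  (nat_lit 32) (nat_lit 3192) .nil) (nat_lit 3154) (nat_lit 705) (nat_lit 2738) (.node .nil (nat_lit 3158)
  (nat_lit 560) (nat_lit 3159) .nil)) (nat_lit 3159) (nat_lit 401) (nat_lit 2743) (.node (.node .nil (nat_lit
  3160) (nat_lit 769) (nat_lit 0x7dbefd) .nil) (nat_lit 3161) (nat_lit 1153) (nat_lit 0x7db813) (.node .nil
  (nat_lit 3165) (nat_lit 1041) (nat_lit 0x7dbef8) .nil))))) (nat_lit 3186) (nat_lit 1169) (nat_lit 0x7db44e)
  (.node (.node (.node (.node (.node (.node .nil (nat_lit 3187) (nat_lit 1105) (nat_lit 0x7db2a0) .nil)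
  (nat_lit 3192) (nat_lit 17) (nat_lit 1) .nil) (nat_lit 3194) (nat_lit 593) (nat_lit 0x7db2a9) (.node .nil
  (nat_lit 3195) (nat_lit 449) (nat_lit 0x7db447) .nil)) (nat_lit 3198) (nat_lit 112) (nat_lit 38) (.node
  (.node (.node .nil (nat_lit 0x7db282) (nat_lit 336) (nat_lit 0x7dbef0) .nil) (nat_lit 0x7db285) (nat_lit
  720) (nat_lit 0x7db468) .nil) (nat_lit 0x7db286) (nat_lit 80) (nat_lit 0x7db832) (.node .nil (nat_lit
  0x7db288) (nat_lit 160) (nat_lit 0x7db83d) .nil))) (nat_lit 0x7db2a0) (nat_lit 961) (nat_lit 0x7db2af)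
  (.node (.node (.node (.node .nil (nat_lit 0x7db2a6) (nat_lit 1089) (nat_lit 1772) .nil) (nat_lit 0x7db2a9)
  (nat_lit 416) (nat_lit 0x7dbedb) .nil) (nat_lit 0x7db2af) (nat_lit 816) (nat_lit 0x7db442) (.node .nil
  (nat_lit 0x7db442) (nat_lit 609) (nat_lit 2718) .nil)) (nat_lit 0x7db447) (nat_lit 304) (nat_lit 0x7db46c)
  (.node (.node .nil (nat_lit 0x7db44c) (nat_lit 881) (nat_lit 0x7db83a) .nil) (nat_lit 0x7db44e) (nat_lit
  1073) (nat_lit 2706) (.node .nil (nat_lit 0x7db460) (nat_lit 1009) (nat_lit 1738) .nil)))) (nat_lit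
  0x7db468) (nat_lit 545) (nat_lit 45) (.node (.node (.node (.node (.node .nil (nat_lit 0x7db46a) (nat_lit
  913) (nat_lit 0x7db285) .nil) (nat_lit 0x7db46c) (nat_lit 209) (nat_lit 1734) .nil) (nat_lit 0x7db810)
  (nat_lit 497) (nat_lit 44) (.node .nil (nat_lit 0x7db813) (nat_lit 1057) (nat_lit 0x7db46a) .nil)) (nat_lit
  0x7db814) (nat_lit 849) (nat_lit 1735) (.node (.node (.node .nil (nat_lit 0x7db81e) (nat_lit 241) (nat_lit
  0x7db288) .nil) (nat_lit 0x7db832) (nat_lit 49) (nat_lit 3192) .nil) (nat_lit 0x7db835) (nat_lit 368)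
  (nat_lit 0x7db81e) (.node .nil (nat_lit 0x7db83a) (nat_lit 688) (nat_lit 0x7db810) .nil))) (nat_lit
  0x7db83d) (nat_lit 97) (nat_lit 0x7db832) (.node (.node (.node (.node .nil (nat_lit 0x7dbed5) (nat_lit 1025)
  (nat_lit 0x7db44c) .nil) (nat_lit 0x7dbed7) (nat_lit 752) (nat_lit 0x7dbefd) .nil) (nat_lit 0x7dbedb)
  (nat_lit 289) (nat_lit 1768) (.node .nil (nat_lit 0x7dbede) (nat_lit 833) (nat_lit 1773) .nil)) (nat_lit
  0x7dbef0) (nat_lit 225) (nat_lit 2741) (.node (.node .nil (nat_lit 0x7dbef8) (nat_lit 897) (nat_lit 3154)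
  .nil) (nat_lit 0x7dbefb) (nat_lit 993) (nat_lit 0x7db814) (.node .nil (nat_lit 0x7dbefd) (nat_lit 577)
  (nat_lit 3159) .nil))))))
theorem v0J : Valid mat l0J := valid_of_words (ws := w0J) (by decide +kernel)
theorem c0J : band (lvl aJ pwJ [] [] l0J 1 t0J) (Nat.beq t0J.size 75) = true := by decide +kernel
/-- data -/
def l1J : List ℕ := [nat_lit
  0xf4ed6462b1460f67f103a12305d53179beb37432d9765d074c241d78d1060accca5f190c000faf00054a000366000c34000d75000d980006cd0001b2000a97000c77000c70000001,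
  nat_lit
  0xb552c3421e68443f64068b644504f4460be40014130c17e8561e703ff6182614aa0202a80004960002090004080001e5000018000a4700000a000089000009000ab1000029000001]
/-- data -/
def w1J : List (List ℕ) := [[nat_lit 0x516461caab0d359b60644a2f704577a4d13], [nat_lit
  0x719af82053a5eab6255225827044a3f70aa1]]
/-- data -/
def t1J : T := (.node (.node (.node .nil (nat_lit 14) (nat_lit 0) (nat_lit 14) .nil) (nat_lit 15) (nat_lit 49)
  (nat_lit 2704) .nil) (nat_lit 2704) (nat_lit 16) (nat_lit 14) (.node .nil (nat_lit 2705) (nat_lit 33)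
  (nat_lit 14) .nil))
theorem v1J : Valid mat l1J := valid_of_words (ws := w1J) (by decide +kernel)
theorem c1J : band (lvl aJ pwJ [1] [3187, 1772, 1735, 1] l1J 14 t1J) (Nat.beq t1J.size 4) = true := by
  decide +kernel
theorem cfJ : band (band (fsChk pwJ [14, 1] [8239161, 8239167, 2750, 14, 3187, 1772, 1735, 1]) (lall [14, 1]
  t4.has)) (nall 8 fun i => spanHas [8239161, 8239167, 2750, 14, 3187, 1772, 1735, 1] (col mF i)) = true := by
  decide +kernel
theorem vaJ : ∃ g, mat g = aJ := exists_wmat (w := waJ) (by decide +kernel)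
theorem vgJ : ∃ g, mat g = gJ := exists_wmat (w := wgJ) (by decide +kernel)
theorem pcJ : pwChk aJ pwJ = true := by decide +kernel
theorem ccJ : cChk tQ aJ aiJ uJ uuJ kgJ usJ = true := by decide +kernel
theorem ca0J : (tQ0.all fun B _ _ => cF uuJ kgJ usJ B) = true := by decide +kernel
theorem ck0J : tQ0.count (fun B => cmm B aJ) = 8 := by decide +kernel
theorem ca1J : (tQ1.all fun B _ _ => cF uuJ kgJ usJ B) = true := by decide +kernel
theorem ck1J : tQ1.count (fun B => cmm B aJ) = 8 := by decide +kernel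
theorem ca2J : (tQ2.all fun B _ _ => cF uuJ kgJ usJ B) = true := by decide +kernel
theorem ck2J : tQ2.count (fun B => cmm B aJ) = 8 := by decide +kernel
theorem ca3J : (tQ3.all fun B _ _ => cF uuJ kgJ usJ B) = true := by decide +kernel
theorem ck3J : tQ3.count (fun B => cmm B aJ) = 8 := by decide +kernel
theorem ca4J : (tQ4.all fun B _ _ => cF uuJ kgJ usJ B) = true := by decide +kernel
theorem ck4J : tQ4.count (fun B => cmm B aJ) = 0 := by decide +kernel
theorem ckJ : tQ.count (fun B => cmm B aJ) = 32 := tQ_count ck0J ck1J ck2J ck3J ck4J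
theorem sectJ : ∃ A : Subgroup Co0, Nat.card A = 5 ∧
    ∃ _ : ((A ⊔ center Co0).subgroupOf C[A]).Normal,
      ∃ (Q : Subgroup (C[A] ⧸ (A ⊔ center Co0).subgroupOf C[A])) (z g : _), LT Q z g 2 60 := by
  obtain ⟨a, h1, h3, h4⟩ := exists_order (p := 5) (Ai := aiJ) (by norm_num) (by decide) vaJ
    (by decide +kernel)
  have h2 : Odd (orderOf a) := h4 ▸ by decide
  have h5 : a ∈ C1[zz] := mem_CZ_of_mat (by rw [h1]; decide +kernel)
  have h6 := card_K tab h2 h1 ckJ
  refine sect (by decide) h4 h5 h6 ?_ (cent_sound tab h2 h5 h1 h3 ccJ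
    (tQ_all ca0J ca1J ca2J ca3J ca4J)) h1 vgJ (K := kJ)
    (by decide +kernel)
  rw [← Fx_nil (C1[a] ⊓ C1[zz]), level h2 h1 pcJ v0J c0J, level h2 h1 pcJ v1J c1J,
    final h1 pcJ cfJ, h6]
  norm_num

end Cfsg.Agent.CoS
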