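import Cfsg.Agent.CoS.Lev

/-! # The section of the Conway group by an element of order 3 without fixed vectors -/

set_option autoImplicit false
set_option maxHeartbeats 2000000

namespace Cfsg.Agent.CoS

open Cfsg.Agent.GT Subgroup Cfsg.Agent.M24 Cfsg.Agent.Leech
open Cfsg.Agent.XL (LT)

/-- data -/
def aS : ℕ := nat_lit 0x8547ea7ff6fabc0ae96f22289c28a82bf35f7ff6ee82dd962fb6b8421461f436e77ffeea7fac697fa0f77faaf66b3c4b3fbeb63fbe277dbed13fb479000c747db46d7dbed6000a9e
/-- data -/
def aiS : ℕ := nat_lit 0x547ea3ff6fa9c0ae97f22289428a82ff35f7df6ee83dd962f36b8425461f416e77feeea7fa4697fa4f77fa8f66b3d4b3fbe363fbe677dbef13fb469000c7c7db4697dbed4000a9f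
/-- data -/
def waS : List ℕ := [nat_lit 0x24f53482b9c5947b608258aa15c6ec75001, nat_lit 0, nat_lit
  0x1d4ba4869405f0b11ac34cb5145d776ff43]
/-- data -/
def gS : ℕ := nat_lit 0xd22aabb147efe86a9a60656100ea6f2033bf2c65257fb710e1004ee863a1202327a342ee4421242fd1614066c14420c044212842bdbe6922894063c00009be692e410000910003e1
/-- data -/
def wgS : List ℕ := [nat_lit 0xaaa4f115a8890375b01448ece39a70000000, nat_lit 0, nat_lit
  0xbc8e8a284bb3a0f331b59a404184b141a1a4]
/-- data -/
def kS : ℕ := nat_lit 0xe924f5400a0e200f2810009108030b0400c1020091010f020080c10040c100292e001091000800000400000200000100000081000041000020000011000008000004000002000001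
/-- data -/
def uS : ℕ := nat_lit 0xd83c6000109e0c137644862d64048f0401ac42100f443bf014173a0044414510e2400a0e00049e0002000004010001ec000041000080000020000a4e000008000004000002000001
/-- data -/
def uuS : ℕ := nat_lit 0xfdb28e40000f20002810002408000a04002d020a900100020080060046c000202f00100f000801000401000201000101000081000041000020000011000008000004000002000001
/-- data -/
def pwS : List ℕ := [nat_lit
  0x8547ea7ff6fabc0ae96f22289c28a82bf35f7ff6ee82dd962fb6b8421461f436e77ffeea7fac697fa0f77faaf66b3c4b3fbeb63fbe277dbed13fb479000c747db46d7dbed6000a9e,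
  nat_lit
  0x800000400000200000100000080000040000020000010000008000004000002000001000000800000400000200000100000080000040000020000010000008000004000002000001]
/-- data -/
def kgS : List ℕ := [nat_lit
  0xe924f5400a0e200f2810009108030b0400c1020091010f020080c10040c100292e001091000800000400000200000100000081000041000020000011000008000004000002000001,
  nat_lit
  0xbda000400000200e681006b40802da0400ec020000010e12008cc600400000283e001000000800000400000200000101000080000040000020000010000008000004000002000001,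
  nat_lit
  0x80000000100000a03808282410280a01202c02000004281220201600400000283e40000000001000004000008000093e000200000400000020000800000008000004000002000001,
  nat_lit
  0xb118bf40084140bc810494174185135085b4020881089407409596405a51208f6e00141e00020000049e000801000dc6000010000a4f000020000081000008000004000002000001,
  nat_lit
  0xe0b6f100141e0c162d448daa640f2604016c42144e443df014124f0042814510e240084e00049e0002010004000001ec000040000081000020000a4e000008000004000002000001,
  nat_lit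
  0xc98cdd09831a18848d30a19728a20d281b6822a89750a5b5380b4a38c48d0020003421b50001000007b5000dc7000800000f680003da00002000093f000008000004000002000001]
/-- data -/
def usS : List ℕ := [nat_lit
  0xb88c7f40084140b5d8049dde418756508863020811089e05409dde405ede20822800141100020000049f000801000dc7000011000a4f000020000080000008000004000002000001,
  nat_lit
  0xe0b6f100148111142350116b5031715085b4421ede301b215400594056cf18006540024100040100080000049f0007b4000a4f000010000020000041000008000004000002000001,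
  nat_lit
  0xd83c6000109e0c137644862d64048f0401ac42100f443bf014173a0044414510e2400a0e00049e0002000004010001ec000041000080000020000a4e000008000004000002000001]
/-- data -/
def l0S : List ℕ := [nat_lit
  0x4fb5e842066871ffedb86f8f30f4a20303644824acbbeac5f0f0920b475cb178462b2ec47cd7ee15f66d15f34a79f9107cd8bd7cd1c37dbefe15fc337db819000a987dbef30006ec,
  nat_lit
  0xce097733f204dc3b4c34c86b48be3eba7ae6644015fc4fdaf87a64f87a217b9b535ff2265641bf02c98d56464a564c452267620b5cc20006ea22665c7db44800000d7db46b000c57]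
/-- data -/
def w0S : List (List ℕ) := [[nat_lit 0x2486b51d23850b6360f9d44a1dcb1c75001, nat_lit 0, nat_lit
  0x1d4886d82c5824f49a70a2a27289d75606af], [nat_lit 0x1d4c892809385b3611f0a5aeb289d1000000, nat_lit 0, nat_lit
  0x1aec993dcca8a1432a67222ed282210ff119]]
/-- data -/
def t0S : T := (.node (.node (.node (.node (.node (.node (.node (.node .nil (nat_lit 1) (nat_lit 0) (nat_lit
  1) .nil) (nat_lit 14) (nat_lit 1568) (nat_lit 0x7dbefd) .nil) (nat_lit 15) (nat_lit 1057) (nat_lit 2750)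
  (.node .nil (nat_lit 38) (nat_lit 48) (nat_lit 1772) .nil)) (nat_lit 39) (nat_lit 2065) (nat_lit 0x7dbeff)
  (.node (.node .nil (nat_lit 42) (nat_lit 385) (nat_lit 0x7dbefb) .nil) (nat_lit 43) (nat_lit 1201) (nat_lit
  0x7db83d) (.node .nil (nat_lit 44) (nat_lit 1841) (nat_lit 2740) .nil))) (nat_lit 45) (nat_lit 1328)
  (nat_lit 1733) (.node (.node (.node .nil (nat_lit 46) (nat_lit 1520) (nat_lit 0x7db81a) .nil) (nat_lit 47)
  (nat_lit 161) (nat_lit 1736) (.node .nil (nat_lit 1728) (nat_lit 1713) (nat_lit 0x7dbedb) .nil)) (nat_lit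
  1729) (nat_lit 1441) (nat_lit 0x7db81d) (.node (.node .nil (nat_lit 1732) (nat_lit 1072) (nat_lit 0x7db810)
  .nil) (nat_lit 1733) (nat_lit 816) (nat_lit 0x7db44e) (.node .nil (nat_lit 1734) (nat_lit 512) (nat_lit
  2705) .nil)))) (nat_lit 1735) (nat_lit 1216) (nat_lit 1743) (.node (.node (.node (.node (.node .nil (nat_lit
  1736) (nat_lit 65) (nat_lit 1772) .nil) (nat_lit 1737) (nat_lit 737) (nat_lit 42) .nil) (nat_lit 1738)
  (nat_lit 2097) (nat_lit 3158) (.node .nil (nat_lit 1739) (nat_lit 769) (nat_lit 2704) .nil)) (nat_lit 1742)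
  (nat_lit 2128) (nat_lit 0x7db467) (.node (.node .nil (nat_lit 1743) (nat_lit 705) (nat_lit 0x7db465) .nil)
  (nat_lit 1764) (nat_lit 1184) (nat_lit 0x7dbef7) (.node .nil (nat_lit 1765) (nat_lit 1936) (nat_lit
  0x7db2a9) .nil))) (nat_lit 1768) (nat_lit 1969) (nat_lit 2714) (.node (.node (.node .nil (nat_lit 1769)
  (nat_lit 1825) (nat_lit 3164) .nil) (nat_lit 1772) (nat_lit 16) (nat_lit 1) (.node .nil (nat_lit 1773)
  (nat_lit 1856) (nat_lit 3167) .nil)) (nat_lit 1774) (nat_lit 2112) (nat_lit 0x7db280) (.node (.node .nil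
  (nat_lit 1775) (nat_lit 1121) (nat_lit 0x7db813) .nil) (nat_lit 2704) (nat_lit 417) (nat_lit 3155) (.node
  .nil (nat_lit 2705) (nat_lit 257) (nat_lit 2709) .nil))))) (nat_lit 2706) (nat_lit 1456) (nat_lit 3187)
  (.node (.node (.node (.node (.node (.node .nil (nat_lit 2707) (nat_lit 353) (nat_lit 47) .nil) (nat_lit
  2708) (nat_lit 1617) (nat_lit 0x7db2a6) .nil) (nat_lit 2709) (nat_lit 112) (nat_lit 38) (.node .nil (nat_lit
  2714) (nat_lit 1536) (nat_lit 0x7db285) .nil)) (nat_lit 2715) (nat_lit 1696) (nat_lit 0x7dbedb) (.node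
  (.node .nil (nat_lit 2716) (nat_lit 529) (nat_lit 2705) .nil) (nat_lit 2717) (nat_lit 97) (nat_lit 3159)
  (.node .nil (nat_lit 2718) (nat_lit 1632) (nat_lit 15) .nil))) (nat_lit 2719) (nat_lit 1344) (nat_lit 3153)
  (.node (.node (.node .nil (nat_lit 2738) (nat_lit 1889) (nat_lit 2719) .nil) (nat_lit 2739) (nat_lit 2145)
  (nat_lit 3161) (.node .nil (nat_lit 2740) (nat_lit 1297) (nat_lit 0x7dbed0) .nil)) (nat_lit 2741) (nat_lit
  1393) (nat_lit 0x7db816) (.node (.node .nil (nat_lit 2742) (nat_lit 1008) (nat_lit 0x7db81e) .nil) (nat_lit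
  2743) (nat_lit 304) (nat_lit 0x7db440) (.node .nil (nat_lit 2750) (nat_lit 577) (nat_lit 3165) .nil))))
  (nat_lit 2751) (nat_lit 1552) (nat_lit 2742) (.node (.node (.node (.node (.node .nil (nat_lit 3152) (nat_lit
  848) (nat_lit 0x7db468) .nil) (nat_lit 3153) (nat_lit 833) (nat_lit 0x7db44e) .nil) (nat_lit 3154) (nat_lit
  1489) (nat_lit 0x7db832) (.node .nil (nat_lit 3155) (nat_lit 193) (nat_lit 0x7dbef4) .nil)) (nat_lit 3158)
  (nat_lit 1760) (nat_lit 0x7db463) (.node (.node .nil (nat_lit 3159) (nat_lit 33) (nat_lit 1) .nil) (nat_lit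
  3160) (nat_lit 2001) (nat_lit 2751) (.node .nil (nat_lit 3161) (nat_lit 2033) (nat_lit 3193) .nil)))
  (nat_lit 3164) (nat_lit 1232) (nat_lit 0x7db814) (.node (.node (.node .nil (nat_lit 3165) (nat_lit 289)
  (nat_lit 0x7db28c) .nil) (nat_lit 3166) (nat_lit 240) (nat_lit 2709) (.node .nil (nat_lit 3167) (nat_lit
  1312) (nat_lit 1739) .nil)) (nat_lit 3186) (nat_lit 2016) (nat_lit 14) (.node (.node .nil (nat_lit 3187)
  (nat_lit 929) (nat_lit 0x7db282) .nil) (nat_lit 3192) (nat_lit 1281) (nat_lit 1737) (.node .nil (nat_lit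
  3193) (nat_lit 1649) (nat_lit 15) .nil)))))) (nat_lit 3194) (nat_lit 1473) (nat_lit 3187) (.node (.node
  (.node (.node (.node (.node (.node .nil (nat_lit 3195) (nat_lit 1600) (nat_lit 0x7db2a6) .nil) (nat_lit
  3198) (nat_lit 1409) (nat_lit 0x7db286) .nil) (nat_lit 3199) (nat_lit 321) (nat_lit 0x7db440) (.node .nil
  (nat_lit 0x7db280) (nat_lit 1777) (nat_lit 1764) .nil)) (nat_lit 0x7db282) (nat_lit 497) (nat_lit 3166)
  (.node (.node .nil (nat_lit 0x7db285) (nat_lit 993) (nat_lit 0x7dbed7) .nil) (nat_lit 0x7db286) (nat_lit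
  897) (nat_lit 0x7db2ab) (.node .nil (nat_lit 0x7db288) (nat_lit 1681) (nat_lit 0x7dbed3) .nil))) (nat_lit
  0x7db28b) (nat_lit 1905) (nat_lit 0x7db2af) (.node (.node (.node .nil (nat_lit 0x7db28c) (nat_lit 129)
  (nat_lit 38) .nil) (nat_lit 0x7db28e) (nat_lit 961) (nat_lit 2716) (.node .nil (nat_lit 0x7db2a0) (nat_lit
  1920) (nat_lit 2741) .nil)) (nat_lit 0x7db2a3) (nat_lit 2048) (nat_lit 0x7db46a) (.node (.node .nil (nat_lit
  0x7db2a4) (nat_lit 1136) (nat_lit 0x7db83f) .nil) (nat_lit 0x7db2a6) (nat_lit 1040) (nat_lit 2750) (.node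
  .nil (nat_lit 0x7db2a9) (nat_lit 1424) (nat_lit 0x7db81d) .nil)))) (nat_lit 0x7db2ab) (nat_lit 481) (nat_lit
  0x7dbed9) (.node (.node (.node (.node (.node .nil (nat_lit 0x7db2ac) (nat_lit 1264) (nat_lit 1737) .nil)
  (nat_lit 0x7db2af) (nat_lit 1376) (nat_lit 0x7db816) .nil) (nat_lit 0x7db440) (nat_lit 144) (nat_lit 1736)
  (.node .nil (nat_lit 0x7db442) (nat_lit 1152) (nat_lit 0x7db449) .nil)) (nat_lit 0x7db444) (nat_lit 1744)
  (nat_lit 0x7db442) (.node (.node .nil (nat_lit 0x7db447) (nat_lit 208) (nat_lit 2717) .nil) (nat_lit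
  0x7db449) (nat_lit 640) (nat_lit 0x7db460) (.node .nil (nat_lit 0x7db44a) (nat_lit 1984) (nat_lit 2751)
  .nil))) (nat_lit 0x7db44c) (nat_lit 1585) (nat_lit 0x7dbefd) (.node (.node (.node .nil (nat_lit 0x7db44e)
  (nat_lit 449) (nat_lit 0x7db447) .nil) (nat_lit 0x7db460) (nat_lit 336) (nat_lit 47) (.node .nil (nat_lit
  0x7db463) (nat_lit 1169) (nat_lit 0x7db835) .nil)) (nat_lit 0x7db465) (nat_lit 368) (nat_lit 0x7dbefb)
  (.node (.node .nil (nat_lit 0x7db467) (nat_lit 1952) (nat_lit 3194) .nil) (nat_lit 0x7db468) (nat_lit 464)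
  (nat_lit 0x7dbed9) (.node .nil (nat_lit 0x7db46a) (nat_lit 1665) (nat_lit 1732) .nil))))) (nat_lit 0x7db46c)
  (nat_lit 400) (nat_lit 3155) (.node (.node (.node (.node (.node (.node .nil (nat_lit 0x7db46f) (nat_lit 272)
  (nat_lit 0x7db28c) .nil) (nat_lit 0x7db810) (nat_lit 593) (nat_lit 2743) .nil) (nat_lit 0x7db813) (nat_lit
  608) (nat_lit 3199) (.node .nil (nat_lit 0x7db814) (nat_lit 720) (nat_lit 42) .nil)) (nat_lit 0x7db816)
  (nat_lit 880) (nat_lit 0x7db2ab) (.node (.node .nil (nat_lit 0x7db818) (nat_lit 2080) (nat_lit 3158) .nil)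
  (nat_lit 0x7db81a) (nat_lit 976) (nat_lit 0x7dbed7) (.node .nil (nat_lit 0x7db81d) (nat_lit 912) (nat_lit
  0x7db282) .nil))) (nat_lit 0x7db81e) (nat_lit 560) (nat_lit 3165) (.node (.node (.node .nil (nat_lit
  0x7db830) (nat_lit 432) (nat_lit 0x7db447) .nil) (nat_lit 0x7db832) (nat_lit 944) (nat_lit 1734) (.node .nil
  (nat_lit 0x7db835) (nat_lit 656) (nat_lit 2707) .nil)) (nat_lit 0x7db836) (nat_lit 1505) (nat_lit 0x7db28e)
  (.node (.node .nil (nat_lit 0x7db839) (nat_lit 801) (nat_lit 0x7db830) .nil) (nat_lit 0x7db83a) (nat_lit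
  784) (nat_lit 0x7db830) (.node .nil (nat_lit 0x7db83d) (nat_lit 688) (nat_lit 0x7db465) .nil)))) (nat_lit
  0x7db83f) (nat_lit 625) (nat_lit 3199) (.node (.node (.node (.node (.node .nil (nat_lit 0x7dbed0) (nat_lit
  753) (nat_lit 0x7db46c) .nil) (nat_lit 0x7dbed3) (nat_lit 1089) (nat_lit 0x7db810) .nil) (nat_lit 0x7dbed5)
  (nat_lit 1873) (nat_lit 3167) (.node .nil (nat_lit 0x7dbed7) (nat_lit 544) (nat_lit 0x7db46f) .nil))
  (nat_lit 0x7dbed9) (nat_lit 225) (nat_lit 2717) (.node (.node .nil (nat_lit 0x7dbedb) (nat_lit 1104)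
  (nat_lit 0x7db813) .nil) (nat_lit 0x7dbedd) (nat_lit 865) (nat_lit 0x7db468) (.node .nil (nat_lit 0x7dbede)
  (nat_lit 1249) (nat_lit 0x7db814) .nil))) (nat_lit 0x7dbef0) (nat_lit 1360) (nat_lit 0x7dbedd) (.node (.node
  (.node .nil (nat_lit 0x7dbef2) (nat_lit 1808) (nat_lit 3164) .nil) (nat_lit 0x7dbef4) (nat_lit 80) (nat_lit
  3159) (.node .nil (nat_lit 0x7dbef7) (nat_lit 673) (nat_lit 2707) .nil)) (nat_lit 0x7dbef8) (nat_lit 1792)
  (nat_lit 43) (.node (.node .nil (nat_lit 0x7dbefb) (nat_lit 176) (nat_lit 0x7dbef4) .nil) (nat_lit 0x7dbefd)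
  (nat_lit 1025) (nat_lit 0x7db81e) (.node .nil (nat_lit 0x7dbeff) (nat_lit 1729) (nat_lit 0x7db2a4)
  .nil)))))))
theorem v0S : Valid mat l0S := valid_of_words (ws := w0S) (by decide +kernel)
theorem c0S : band (lvl aS pwS [] [] l0S 1 t0S) (Nat.beq t0S.size 135) = true := by decide +kernel
/-- data -/
def l1S : List ℕ := [nat_lit
  0xe796f56bfff1340ef92511e81bedf9281fde14577a4bfed94fc2ce7bedfa4ffff17f60140007b10001050001e9000f6d00049b00080500000500040400002400000c000c71000001,
  nat_lit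
  0xd257e376fc152b00f46a00e04c04783de8c534fc8446f48061092b15fcc40381521fd77300036700031d000fae00047500063b000c650006cc000c34000c7d000c71000c54000001]
/-- data -/
def w1S : List (List ℕ) := [[nat_lit 0x8a490b4dc6684efa225562c0a28ee2f59941], [nat_lit
  0x71d0a93034481ed8566bb1226188b771191f]]
/-- data -/
def t1S : T := (.node (.node (.node (.node (.node (.node .nil (nat_lit 38) (nat_lit 0) (nat_lit 38) .nil)
  (nat_lit 39) (nat_lit 448) (nat_lit 1738) .nil) (nat_lit 46) (nat_lit 257) (nat_lit 2743) (.node .nil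
  (nat_lit 47) (nat_lit 288) (nat_lit 1775) .nil)) (nat_lit 1732) (nat_lit 176) (nat_lit 3154) (.node (.node
  .nil (nat_lit 1733) (nat_lit 225) (nat_lit 1739) .nil) (nat_lit 1738) (nat_lit 337) (nat_lit 2716) (.node
  .nil (nat_lit 1739) (nat_lit 112) (nat_lit 2708) .nil))) (nat_lit 1768) (nat_lit 320) (nat_lit 3199) (.node
  (.node (.node .nil (nat_lit 1769) (nat_lit 33) (nat_lit 38) .nil) (nat_lit 1774) (nat_lit 464) (nat_lit
  2717) (.node .nil (nat_lit 1775) (nat_lit 161) (nat_lit 2714) .nil)) (nat_lit 2706) (nat_lit 144) (nat_lit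
  2714) (.node (.node .nil (nat_lit 2707) (nat_lit 480) (nat_lit 2715) .nil) (nat_lit 2708) (nat_lit 48)
  (nat_lit 3192) (.node .nil (nat_lit 2709) (nat_lit 417) (nat_lit 47) .nil)))) (nat_lit 2714) (nat_lit 65)
  (nat_lit 3192) (.node (.node (.node (.node .nil (nat_lit 2715) (nat_lit 368) (nat_lit 2750) .nil) (nat_lit
  2716) (nat_lit 208) (nat_lit 3165) (.node .nil (nat_lit 2717) (nat_lit 353) (nat_lit 1733) .nil)) (nat_lit
  2742) (nat_lit 272) (nat_lit 2706) (.node (.node .nil (nat_lit 2743) (nat_lit 129) (nat_lit 2708) .nil)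
  (nat_lit 2750) (nat_lit 240) (nat_lit 2743) (.node .nil (nat_lit 2751) (nat_lit 400) (nat_lit 2742) .nil)))
  (nat_lit 3154) (nat_lit 80) (nat_lit 1769) (.node (.node (.node .nil (nat_lit 3155) (nat_lit 432) (nat_lit
  1768) .nil) (nat_lit 3164) (nat_lit 384) (nat_lit 46) (.node .nil (nat_lit 3165) (nat_lit 97) (nat_lit 1769)
  .nil)) (nat_lit 3192) (nat_lit 16) (nat_lit 38) (.node (.node .nil (nat_lit 3193) (nat_lit 496) (nat_lit 39)
  .nil) (nat_lit 3198) (nat_lit 304) (nat_lit 1732) (.node .nil (nat_lit 3199) (nat_lit 193) (nat_lit 3154)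
  .nil)))))
theorem v1S : Valid mat l1S := valid_of_words (ws := w1S) (by decide +kernel)
theorem c1S : band (lvl aS pwS [1] [2718, 1] l1S 38 t1S) (Nat.beq t1S.size 32) = true := by decide +kernel
/-- data -/
def l2S : List ℕ := [nat_lit
  0x8b117d1041140146830494a30cc6c300c6c306ce8304297e0084817f7cc424496c44c48d000040000081000010000800000dc70001000000200001ec0006e3000004000002000001,
  nat_lit
  0xd6050642581f3f5e722f7f4c60c2307d74443dfa0b43cad904cd963dbc4877365c024841000a38000af80000f700077e0002b90008b80006cc000eb9000abb000ab0000c5a000001]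
/-- data -/
def w2S : List (List ℕ) := [[nat_lit 0x1d20c9a62d55eb631c8b7a0b27082070e088], [nat_lit
  0x131b4aa0109166439acf5a6ea08dd1540c16]]
/-- data -/
def t2S : T := (.node (.node (.node (.node .nil (nat_lit 1737) (nat_lit 0) (nat_lit 1737) .nil) (nat_lit 1742)
  (nat_lit 113) (nat_lit 2705) .nil) (nat_lit 1772) (nat_lit 128) (nat_lit 3194) (.node .nil (nat_lit 2705)
  (nat_lit 65) (nat_lit 3167) .nil)) (nat_lit 2739) (nat_lit 49) (nat_lit 2740) (.node (.node (.node .nil
  (nat_lit 2740) (nat_lit 16) (nat_lit 1737) .nil) (nat_lit 3160) (nat_lit 80) (nat_lit 2739) .nil) (nat_lit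
  3167) (nat_lit 32) (nat_lit 2740) (.node .nil (nat_lit 3194) (nat_lit 96) (nat_lit 2705) .nil)))
theorem v2S : Valid mat l2S := valid_of_words (ws := w2S) (by decide +kernel)
theorem c2S : band (lvl aS pwS [38, 1] [8238186, 38, 2718, 1] l2S 1737 t2S) (Nat.beq t2S.size 9) = true := by
  decide +kernel
/-- data -/
def l3S : List ℕ := [nat_lit
  0xf1008f69ebdd745fbc5ab1ad241cb855afca1649bc36013c4fcab3065d2a4fb8ad7d7839000d0d000bb9000b550005d00002b9000e26000c5a0008b8000abb0006cd000ab1000001]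
/-- data -/
def w3S : List (List ℕ) := [[nat_lit 0x12ad024c07694cfa22555b1c90dc719cad0e]]
/-- data -/
def t3S : T := (.node (.node .nil (nat_lit 14) (nat_lit 0) (nat_lit 14) .nil) (nat_lit 1735) (nat_lit 16)
  (nat_lit 14) .nil)
theorem v3S : Valid mat l3S := valid_of_words (ws := w3S) (by decide +kernel)
theorem c3S : band (lvl aS pwS [1737, 38, 1] [3194, 1737, 8238186, 38, 2718, 1] l3S 14 t3S) (Nat.beq t3S.size
  2) = true := by decide +kernel
theorem cfS : band (band (fsChk pwS [14, 1737, 38, 1] [1743, 14, 3194, 1737, 8238186, 38, 2718, 1]) (lall [14,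
  1737, 38, 1] t4.has)) (nall 8 fun i => spanHas [1743, 14, 3194, 1737, 8238186, 38, 2718, 1] (col mF i)) =
  true := by decide +kernel
theorem vaS : ∃ g, mat g = aS := exists_wmat (w := waS) (by decide +kernel)
theorem vgS : ∃ g, mat g = gS := exists_wmat (w := wgS) (by decide +kernel)
theorem pcS : pwChk aS pwS = true := by decide +kernel
theorem ccS : cChk tQ aS aiS uS uuS kgS usS = true := by decide +kernel
theorem ca0S : (tQ0.all fun B _ _ => cF uuS kgS usS B) = true := by decide +kernel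
theorem ck0S : tQ0.count (fun B => cmm B aS) = 32 := by decide +kernel
theorem ca1S : (tQ1.all fun B _ _ => cF uuS kgS usS B) = true := by decide +kernel
theorem ck1S : tQ1.count (fun B => cmm B aS) = 32 := by decide +kernel
theorem ca2S : (tQ2.all fun B _ _ => cF uuS kgS usS B) = true := by decide +kernel
theorem ck2S : tQ2.count (fun B => cmm B aS) = 31 := by decide +kernel
theorem ca3S : (tQ3.all fun B _ _ => cF uuS kgS usS B) = true := by decide +kernel
theorem ck3S : tQ3.count (fun B => cmm B aS) = 32 := by decide +kernel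
theorem ca4S : (tQ4.all fun B _ _ => cF uuS kgS usS B) = true := by decide +kernel
theorem ck4S : tQ4.count (fun B => cmm B aS) = 1 := by decide +kernel
theorem ckS : tQ.count (fun B => cmm B aS) = 128 := tQ_count ck0S ck1S ck2S ck3S ck4S
theorem sectS : ∃ A : Subgroup Co0, Nat.card A = 3 ∧
    ∃ _ : ((A ⊔ center Co0).subgroupOf C[A]).Normal,
      ∃ (Q : Subgroup (C[A] ⧸ (A ⊔ center Co0).subgroupOf C[A])) (z g : _), LT Q z g 3 25920 := by
  obtain ⟨a, h1, h3, h4⟩ := exists_order (p := 3) (Ai := aiS) (by norm_num) (by decide) vaS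
    (by decide +kernel)
  have h2 : Odd (orderOf a) := h4 ▸ by decide
  have h5 : a ∈ C1[zz] := mem_CZ_of_mat (by rw [h1]; decide +kernel)
  have h6 := card_K tab h2 h1 ckS
  refine sect (by decide) h4 h5 h6 ?_ (cent_sound tab h2 h5 h1 h3 ccS
    (tQ_all ca0S ca1S ca2S ca3S ca4S)) h1 vgS (K := kS)
    (by decide +kernel)
  rw [← Fx_nil (C1[a] ⊓ C1[zz]), level h2 h1 pcS v0S c0S, level h2 h1 pcS v1S c1S, level h2 h1 pcS v2S c2S, level h2 h1 pcS v3S c3S,
    final h1 pcS cfS, h6]
  norm_num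

end Cfsg.Agent.CoS
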