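import Cfsg.Agent.CoS.Z
import Cfsg.Agent.CoS.ZC

/-! # The centralizer of the involution: the extraspecial group, the action on the fixed lattice -/

set_option autoImplicit false

namespace Cfsg.Agent.CoS

open Cfsg.Spor Cfsg.Agent.GT Cfsg.Agent.TT Subgroup Cfsg.Agent.M24 Cfsg.Agent.Leech MulAction Finset
open scoped Pointwise symmDiff

/-! ### The fixed lattice modulo two -/

/-- vectors whose class is in the span of the columns of `mF` -/
def WL : AddSubgroup Lv where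
  carrier := {v | ∃ m < 2 ^ 8, cd v = apn 8 mF m}
  zero_mem' := ⟨0, by norm_num, cdx_zero.trans (apn_zero _ _).symm⟩
  add_mem' := by
    rintro v w ⟨m, hm, e⟩ ⟨n, hn, e'⟩
    exact ⟨m ^^^ n, Nat.xor_lt_two_pow hm hn, by rw [cd_add, e, e', apn_xor]⟩
  neg_mem' := by
    rintro v ⟨m, hm, e⟩
    exact ⟨m, hm, (cd_eq.2 (cong_neg v.2)).trans e⟩

theorem mem_WL {v : GolayPt → ℤ} (hv : v ∈ leechLattice) (n : ℕ)
    (h : Rep v n ∧ (force (cdN n) fun k => nany 256 fun m => Nat.beq k (apn 8 mF m)) = true) :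
    (⟨v, hv⟩ : Lv) ∈ WL := by
  obtain ⟨m, hm, e⟩ := (nany_iff _ _).1 (force_eq (cdN n) _ ▸ h.2)
  exact ⟨m, hm, (cd_of_rep (v := ⟨v, hv⟩) h.1).trans (Nat.eq_of_beq_eq_true e)⟩

theorem fix_W {v : Lv} (hv : zz • v = v) : v ∈ WL := by
  have h0 := zz_fix.1 hv
  obtain ⟨m, c, y, hm, hc, hy, e⟩ := exists_form v.2
  have h1 : ∀ p, p ∉ O0 → m = 0 ∧ p ∉ c ∧ y p = 0 := fun p hp => by
    have := (h0 p hp).symm.trans (e p)
    by_cases h : p ∈ c <;> simp only [chi, h, if_true, if_false] at this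
    · omega
    · exact ⟨by omega, h, by omega⟩
  obtain rfl := (h1 (some 4) (mt mem_O0.1 (by decide +kernel))).1
  have h2 : (⟨_, two_chi_mem hc⟩ : Lv) ∈ WL := by
    have a : c ⊆ O0 := fun p hp => not_not.1 fun h => (h1 p h).2.1 hp
    have b := card_le_card a
    rw [(mem_octads.1 O0_mem).2] at b
    by_cases h : c.card < 8
    · obtain rfl := hc.eq_empty h
      exact mem_WL _ 0 (by decide +kernel)
    · obtain rfl := eq_of_subset_of_card_le a (by rw [(mem_octads.1 O0_mem).2]; omega)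
      exact mem_WL _ 0x200000200200000000202222 (by decide +kernel)
  obtain ⟨t, ht⟩ := hy
  have h3 : v = ⟨_, two_chi_mem hc⟩ + (∑ p, y p • v44 p none (-1) odd_neg_one + t • e8 none) :=
    Subtype.ext (funext fun j => by
      simp only [AddSubgroup.coe_add, AddSubmonoidClass.coe_finsetSum, AddSubgroupClass.coe_zsmul,
        Pi.add_apply, Finset.sum_apply, Pi.smul_apply, smul_eq_mul, e8, v44, mul_add,
        sum_add_distrib, ← sum_mul, e]
      have : ∑ i, y i * (4 * chi {i} j) = 4 * y j := by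
        simp [chi, mul_comm, -Fintype.sum_option]
      rw [this, show ∑ i, y i = t + t by omega]; ring)
  rw [h3]
  refine add_mem h2 (add_mem (sum_mem fun p _ => ?_) (zsmul_mem (mem_WL (e8 none).2 (8 * 2 ^ 92)
    (by decide +kernel)) _))
  by_cases hp : p ∈ O0
  · refine zsmul_mem (mem_WL (v44 p none (-1) odd_neg_one).2 (4 * 16 ^ idx p + 12 * 16 ^ 23) ?_) _
    rw [mem_O0] at hp
    revert p; decide +kernel
  · rw [(h1 p hp).2.2, zero_smul]; exact zero_mem _

theorem valid_of_words {l : List ℕ} {ws : List (List ℕ)}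
    (h : (List.rec (motive := fun _ => List ℕ → Bool) (fun l => l.isEmpty)
      (fun w _ ih l => band (band (lall w ltrOk) (Nat.beq (wmat w) l.headI)) (ih l.tail)) ws l) = true) :
    Valid mat l := by
  induction ws generalizing l with
  | nil => rw [List.isEmpty_iff.1 h]; exact fun _ h => nomatch h
  | cons w ws ih =>
    have h' : band (band (lall w ltrOk) (Nat.beq (wmat w) l.headI)) _ = true := h
    rw [band_eq, Bool.and_eq_true] at h'
    intro s hs
    cases l with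
    | nil => exact nomatch hs
    | cons a l =>
      rcases List.mem_cons.1 hs with rfl | hs
      exacts [exists_wmat h'.1, ih h'.2 s hs]

theorem valid_lC : Valid mat lC := valid_of_words (ws := wC.map fun a => [a]) (by decide +kernel)

theorem orb_fix {x : Lt} (h : x ∈ orbit C1[zz] x8) : ∃ v, zz • v = v ∧ cl v = x :=
  let ⟨g, e⟩ := h; ⟨g.1 • e8 none, zz_smul g.2 (zz_e8 none_O0), e⟩

theorem orb_iff {x : Lt} : x ∈ orbit C1[zz] x8 ↔ t4.has (cdx x) = true := by
  refine ⟨fun h => ?_, fun hx => ?_⟩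
  · obtain ⟨v, hv, e⟩ := orb_fix h
    obtain ⟨m, hm, e'⟩ := fix_W hv
    have h1 : x ∈ orbit Co0 x8 := let ⟨g, e⟩ := h; ⟨g, e⟩
    have := ball_zero (f := fun m => force (apn 8 mF m) fun k =>
      bor (t4.has k) (bor (Nat.beq k 0) (t2.has k))) (d := 8) (by decide +kernel) m hm
    rw [force_eq, ← e', ← cdx_cl, e] at this
    simp only [bor_eq, Bool.or_eq_true, Nat.beq_eq] at this
    rcases this with a | a | a
    · exact a
    · exact absurd h1 (zero_not_orbit a)
    · exact absurd h1 (not_orbit valid_lC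
        [4, 0, 0, 0, 0, 0, 0, 0, 0, 0, 0, 0, 0, 0, 0, 0, 0, 0, 0, 0, 0, 0, 0, 4]
        0x400000000000000000000004 (by decide +kernel) (by decide +kernel) a)
  · obtain ⟨g, hg, e⟩ := conn_keys valid_lC cdx_x8 (by decide +kernel) hx
    exact ⟨⟨g, gen_le_CZ (by decide +kernel) hg⟩, e⟩

theorem t4_srt : t4.srt 0 (2 ^ 24) = true := by decide +kernel

theorem ncard_has {t : T} (h : t.srt 0 (2 ^ 24) = true) {O : Set Lt}
    (e : ∀ x, x ∈ O ↔ t.has (cdx x) = true) : O.ncard = t.size := by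
  rw [T.size_eq, ← acL.ncard_keys (T.srt_nodup h) fun k hk =>
    ⟨_, trivial, cdx_unx (T.srt_bound h k hk).2⟩]
  exact congrArg _ (Set.ext fun x => by simp [e, T.has_iff h])

theorem card_CZ : Nat.card C1[zz] = 2 * (512 * 174182400) := by
  rw [← card_inf_stab _ x8, stab_x8, inf_comm, card_NZ, ncard_has t4_srt fun _ => orb_iff]
  decide +kernel

/-- singular classes -/
noncomputable def sg (k : ℕ) : Bool := bor (Nat.beq k (nat_lit 0)) (t4.has k)

theorem sg_iff {x : Lt} : sg (cdx x) = true ↔ x = 0 ∨ x ∈ orbit C1[zz] x8 := by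
  rw [sg, bor_eq, Bool.or_eq_true, Nat.beq_eq, orb_iff, ← cdx_inj.eq_iff, cdx_zero]

theorem sg_smul {g : Co0} (hg : g ∈ C1[zz]) (x : Lt) : sg (cdx (g • x)) = sg (cdx x) := by
  rw [Bool.eq_iff_iff, sg_iff, sg_iff, smul_eq_zero_iff_eq]
  exact or_congr_right ⟨fun h => inv_smul_smul g x ▸ mem_orbit_of_mem_orbit (⟨g, hg⟩ : C1[zz])⁻¹ h,
    mem_orbit_of_mem_orbit (⟨g, hg⟩ : C1[zz])⟩

theorem mem_of_fix_W {g : Co0} (h : ∀ v, zz • v = v → g • cl v = cl v) : g ∈ Q0 ∨ ng * g ∈ Q0 := by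
  have hz : ∀ a ∈ O0, ∀ s (hs : Odd s), zz • v44 a none s hs = v44 a none s hs :=
    fun a ha s hs => zz_fix.2 fun p hp => by
      have h1 : p ≠ a := fun e => hp (e ▸ ha)
      have h2 : p ≠ none := fun e => hp (e ▸ none_O0)
      simp [v44, chi, h1, h2]
  have b0 : some 0 ∈ O0 := mem_O0.2 (by decide +kernel)
  have key : ∀ g : Co0, (∀ v, zz • v = v → g • cl v = cl v) →
      g • v44 (some 0) none 1 odd_one = v44 (some 0) none 1 odd_one → g ∈ Q0 := fun g h hw => by
    have h1 : ∀ a ∈ O0, a ≠ none → a ≠ some 0 → ∀ s (hs : Odd s), s ^ 2 = 1 →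
        g • v44 a none s hs = v44 a none s hs := fun a ha a1 a2 s hs h1 =>
      (short_pm (by rw [norm_v44 a1 hs h1]; norm_num) (cl_eq.1 (h _ (hz a ha s hs)))).resolve_right
        fun h2 => by
          have := dot_smul g (v44 (some 0) none 1 odd_one) (v44 a none s hs)
          rw [hw, h2, AddSubgroup.coe_neg, dot_neg, dot_v44] at this
          simp only [v44, chi, Finset.mem_singleton, a1, a2, if_true, if_false, reduceCtorEq] at this
          obtain ⟨k, rfl⟩ := hs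
          omega
    have h2 : g • e8 none = e8 none := by
      have : e8 none = v44 (some 1) none 1 odd_one - v44 (some 1) none (-1) odd_neg_one :=
        Subtype.ext (funext fun j => by simp [e8, v44]; ring)
      have b : some 1 ∈ O0 := mem_O0.2 (by decide +kernel)
      rw [this, smul_sub, h1 _ b (by simp) (by decide) _ _ (by norm_num),
        h1 _ b (by simp) (by decide) _ _ (by norm_num)]
    intro p hp
    by_cases a1 : p = none
    · rw [a1, h2]
    have : e8 p = v44 p none 1 odd_one + v44 p none 1 odd_one - e8 none :=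
      Subtype.ext (funext fun j => by simp [e8, v44]; ring)
    rw [this, smul_sub, smul_add, h2]
    by_cases a2 : p = some 0
    · rw [a2, hw]
    · rw [h1 p hp a1 a2 _ _ (by norm_num)]
  rcases short_pm (g := g) (by rw [norm_v44 (by simp) odd_one (by norm_num)]; norm_num)
    (cl_eq.1 (h _ (hz _ b0 1 odd_one))) with h1 | h1
  · exact Or.inl (key g h h1)
  · exact Or.inr (key _ (fun v hv => by rw [mul_smul, h v hv, act_of_pj (pj_ng.trans (map_one pj).symm),
      one_smul]) (by rw [mul_smul, h1, ng_smul, neg_neg]))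

/-! ### The table of the extraspecial group -/

/-- matrix of an element of the extraspecial group -/
noncomputable def mq (g : Q0) : ℕ := mat g

theorem mq_eq (g : Q0) : mq g = mat g := by rw [mq]

theorem acQ : AC mq (Set.univ : Set Q0) mq mulf :=
  ⟨fun _ _ _ => trivial, fun x _ y _ e => Subtype.ext (mat_inj x.2 y.2 e),
    fun g x _ => (mat_mulf g.1 x.1).symm⟩

theorem valid_lQ : Valid mq lQ := fun s hs => by
  obtain ⟨a, h⟩ := lall2_sound lQ_chk s hs
  simp only [force_eq, band_eq, Bool.and_eq_true, Nat.beq_eq] at h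
  obtain ⟨⟨⟨h1, h2⟩, h3, h4⟩, h5⟩ := h
  have a1 : Nat.land a 0xffffff < 2 ^ 24 := Nat.and_lt_two_pow (n := 24) _ (by norm_num)
  have a2 := (isCw_unmask a1).2 h1
  refine ⟨⟨sgn _ * prm (elt (Nat.shiftRight a 24)), (mem_Q0 a2).2 ⟨?_, mem_pstab.2
    (fixesAll_iff.1 ?_)⟩⟩, (mat_sgn_prm a2 _).trans ?_⟩
  · rwa [disjoint_iff_mask, mask_unmask a1, mask_O0]
  · rwa [mask_O0, ← mcode, mcode_elt h3]
  · rwa [mcode_elt h3]

/-- `t` tabulates the extraspecial group -/
structure Tab (t : T) : Prop where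
  srt : t.srt 0 (2 ^ 576) = true
  conn : connChk mulf lQ onem t = true
  size : t.size = 512

theorem tab : Tab tQ := ⟨tQ_srt, tQ_conn, tQ_size⟩

namespace Tab

variable {t : T}

theorem ex (h : Tab t) : ∀ k ∈ t.keys, ∃ g ∈ gen mq lQ, mq g = k := fun k hk => by
  have e1 : mq 1 = onem := mat_one
  obtain ⟨g, hg, e⟩ := acQ.conn_sound valid_lQ (x₀ := 1) trivial (e1.symm ▸ h.conn) k hk
  exact ⟨g, hg, (congrArg mq (mul_one g)).symm.trans e⟩

theorem univ (h : Tab t) : (Set.univ : Set Q0) = {x | x ∈ Set.univ ∧ mq x ∈ t.keys} := by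
  refine (Set.eq_of_subset_of_ncard_le (Set.subset_univ _) ?_).symm
  rw [acQ.ncard_keys (T.srt_nodup h.srt) fun k hk =>
    let ⟨g, _, e⟩ := h.ex k hk; ⟨g, trivial, e⟩, Set.ncard_univ, card_Q0, ← T.size_eq, h.size]

theorem mem (h : Tab t) {k : Co0} (hk : k ∈ Q0) : mat k ∈ t.keys := by
  have : (⟨k, hk⟩ : Q0) ∈ (Set.univ : Set Q0) := trivial
  rw [h.univ, Set.mem_ofPred_eq, mq_eq] at this
  exact this.2

theorem all (h : Tab t) {f : ℕ → Bool} (h' : (t.all fun k _ _ => f k) = true) {k : Co0}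
    (hk : k ∈ Q0) : f (mat k) = true :=
  let ⟨a, b, e⟩ := T.mem_keys.1 (h.mem hk); (T.all_iff _ _).1 h' _ a b e

theorem has (h : Tab t) {s : ℕ} (h' : t.has s = true) : ∃ k ∈ Q0, mat k = s :=
  let ⟨g, _, e⟩ := h.ex s (T.has_sound h'); ⟨g, g.2, e⟩

theorem le (h : Tab t) {H : Subgroup Co0} (h' : ∀ k ∈ Q0, mat k ∈ lQ → k ∈ H) : Q0 ≤ H :=
  fun k hk => by
  obtain ⟨g, hg, e⟩ := h.ex _ (h.mem hk)
  rw [← mat_inj g.2 hk e]
  exact gen_le (H := H.subgroupOf Q0) (fun x => h' x x.2) hg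

theorem count (h : Tab t) {H : Subgroup Co0} {f : ℕ → Bool}
    (h' : ∀ k ∈ Q0, k ∈ H ↔ f (mat k) = true) : Nat.card ↥(Q0 ⊓ H) = t.count f := by
  rw [← acQ.ncard_filter h.univ (fun k hk => let ⟨g, _, e⟩ := h.ex k hk; ⟨g, trivial, e⟩)
    (T.srt_nodup h.srt) (P := fun x => x.1 ∈ H) fun x _ => h' x x.2, ← Nat.card_coe_set_eq]
  exact Nat.card_congr ⟨fun x => ⟨⟨x, x.2.1⟩, trivial, x.2.2⟩, fun x => ⟨x.1, x.1.2, x.2.2⟩,
    fun _ => rfl, fun _ => rfl⟩

end Tab

theorem Q0_sq {k : Co0} (hk : k ∈ Q0) : k * k = 1 ∨ k * k = zz := by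
  have := tab.all sq_chk hk
  rw [force_eq, bor_eq, Bool.or_eq_true, Nat.beq_eq, Nat.beq_eq, ← mat_mulf, ← mat_one,
    ← mat_zz] at this
  exact this.imp (mat_inj (mul_mem hk hk) (one_mem _)) (mat_inj (mul_mem hk hk) zz_Q0)

theorem zz_ne : zz ≠ 1 := fun h => absurd ((mat_zz.symm.trans (congrArg mat h)).trans mat_one)
  (by decide +kernel)

theorem es_Q0 : ES Q0 zz := by
  have zc : ∀ x ∈ Q0, Commute zz x := fun x hx => (mem_cent1.1 (Q0_le_C hx)).symm
  refine ⟨zz_Q0, zz_zz, zz_ne, zc, fun x hx y hy => ?_, fun _ => Q0_sq, fun x hx h => ?_, ?_⟩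
  · have e : x * y * x⁻¹ = y * ((y * y)⁻¹ * ((y * x) * (y * x)) * (x * x)⁻¹) := by group
    have zi : zz⁻¹ = zz := inv_eq_of_mul_eq_one_right zz_zz
    rcases Q0_sq hy with a | a <;> rcases Q0_sq (mul_mem hy hx) with b | b <;>
      rcases Q0_sq hx with c | c <;> rw [e, a, b, c] <;> simp [zi, zz_zz]
  · rcases cent_Q0 fun y hy => (h y hy).symm with a | a | a | a
    exacts [Or.inl a, Or.inr a, absurd (a ▸ hx) ng_Q0,
      absurd ((mul_mem_cancel_right zz_Q0).1 (a ▸ hx)) ng_Q0]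
  · by_contra h
    push Not at h
    have : ∀ s ∈ lQ, ∀ t ∈ lQ, mulf s t = mulf t s := fun s hs t ht => by
      obtain ⟨x, rfl⟩ := valid_lQ s hs
      obtain ⟨y, rfl⟩ := valid_lQ t ht
      rw [mq_eq, mq_eq, ← mat_mulf, ← mat_mulf, h _ x.2 _ y.2]
    revert this; decide +kernel

theorem mem_of_triv {d : Co0} (h : ∀ y ∈ Q0, d * y * d⁻¹ = y ∨ d * y * d⁻¹ = y * zz) :
    d ∈ Q0 ∨ ng * d ∈ Q0 := by
  obtain ⟨q, hq, e⟩ := es_Q0.exists_inner h
  have : q⁻¹ * d ∈ C[Q0] := fun y hy => by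
    rw [show q⁻¹ * d * y = q⁻¹ * (d * y * d⁻¹) * d by group, e y hy]; group
  rcases cent_Q0 this with a | a | a | a <;> rw [inv_mul_eq_iff_eq_mul] at a <;> rw [a]
  · exact Or.inl (by rwa [mul_one])
  · exact Or.inl (mul_mem hq zz_Q0)
  · exact Or.inr (by rwa [ng_comm, ← mul_assoc, ng_mul_self, one_mul])
  · exact Or.inr (by
      rw [← mul_assoc q, ng_comm, ← mul_assoc, ← mul_assoc, ng_mul_self, one_mul]
      exact mul_mem hq zz_Q0)

end Cfsg.Agent.CoS
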